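import Mathlib
import Cfsg.Prelude.Def_LieTypeChar
import Cfsg.Agent.FastGrp
import Cfsg.Agent.Prune
set_option linter.all false

section
prune_inst 0x7f00000000000000000000000000000000000000000000000000000000000000000000000000000000000000000000000000000000000000000000000000000000000000000000000000000000000000003fffffffffffffffffffffffffffbeffbdffffffff

-- part: H883/BR/Defs
section
set_option linter.all false
open scoped Cfsg.Agent.FastGrp

/-!
# HUB BR (bounded rank part of S5715, S5716): interface

`G` a finite quasisimple classical group, `ρ` its natural representation over the algebraically closed field `K`,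
`F ⊆ K` the (finite) field of the root groups `{1 + t a : t ∈ F}`.

* `ad ρ` : the conjugation representation on `End V` (so `ad (ad ρ)` acts on `End (End V)`);
* `Inv ρ H U`, `Dns ρ H` (every `H`-invariant subspace is `G`-invariant), `Irr ρ H`, `Ssm ρ H`;
* `cent ρ N` : the centraliser of `ρ N` in `End V`;  `TPrim ρ`;
* `OneP F x`, `PolyDeg ρ F x e` : one-parameter subgroups which generate `G` and act by polynomials of degree `≤ e`;
* `TrGen F σ y` : `(tr σ y) ^ dim` lies in no proper subfield of `F`;
* `Row C q G` : everything the counting needs;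
* `CRG p M U` : the theorem of Curtis and Richen.
-/

set_option autoImplicit false

namespace Cfsg.Agent.H883.BR

universe u v w

section rep

variable {K : Type u} {V : Type v} {G : Type w} [Field K] [AddCommGroup V] [Module K V] [Group G]

/-- the conjugation representation on `End V` -/
def ad (ρ : G →* Module.End K V) : G →* Module.End K (Module.End K V) where
  toFun g :=
    { toFun := fun X => ρ g * X * ρ g⁻¹
      map_add' := fun X Y => by rw [mul_add, add_mul]
      map_smul' := fun c X => by rw [mul_smul_comm, smul_mul_assoc, RingHom.id_apply] }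
  map_one' := by
    refine LinearMap.ext fun X => ?_
    change ρ 1 * X * ρ 1⁻¹ = X
    rw [inv_one, map_one, one_mul, mul_one]
  map_mul' g h := by
    refine LinearMap.ext fun X => ?_
    change ρ (g * h) * X * ρ (g * h)⁻¹ = ρ g * (ρ h * X * ρ h⁻¹) * ρ g⁻¹
    rw [mul_inv_rev, map_mul, map_mul]
    simp only [mul_assoc]

theorem ad_apply (ρ : G →* Module.End K V) (g : G) (X : Module.End K V) : ad ρ g X = ρ g * X * ρ g⁻¹ := rfl

/-- invariant subspaces -/
def Inv (ρ : G →* Module.End K V) (H : Subgroup G) (U : Submodule K V) : Prop := ∀ h ∈ H, ∀ v ∈ U, ρ h v ∈ U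

/-- every `H`-invariant subspace is `G`-invariant -/
def Dns (ρ : G →* Module.End K V) (H : Subgroup G) : Prop := ∀ U : Submodule K V, Inv ρ H U → Inv ρ ⊤ U

/-- irreducible -/
def Irr (ρ : G →* Module.End K V) (H : Subgroup G) : Prop :=
  Nontrivial V ∧ ∀ U : Submodule K V, Inv ρ H U → U = ⊥ ∨ U = ⊤

/-- semisimple -/
def Ssm (ρ : G →* Module.End K V) (H : Subgroup G) : Prop :=
  ∀ U : Submodule K V, Inv ρ H U → ∃ U' : Submodule K V, Inv ρ H U' ∧ IsCompl U U'

/-- the centraliser of `ρ N` in `End V` -/
def cent (ρ : G →* Module.End K V) (N : Subgroup G) : Submodule K (Module.End K V) where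
  carrier := {X | ∀ n ∈ N, X * ρ n = ρ n * X}
  zero_mem' := fun n _ => by rw [zero_mul, mul_zero]
  add_mem' := fun {X Y} hX hY n hn => by rw [add_mul, mul_add, hX n hn, hY n hn]
  smul_mem' := fun c X hX n hn => by rw [smul_mul_assoc, mul_smul_comm, hX n hn]

theorem mem_cent {ρ : G →* Module.End K V} {N : Subgroup G} {X : Module.End K V} :
    X ∈ cent ρ N ↔ ∀ n ∈ N, X * ρ n = ρ n * X := Iff.rfl

/-- `ρ` is primitive and tensor-indecomposable, in the form we need -/
def TPrim (ρ : G →* Module.End K V) : Prop :=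
  ∀ N : Subgroup G, Ssm ρ N → Inv (ad ρ) ⊤ (cent ρ N) →
    (∀ n ∈ N, ∃ c : K, ρ n = c • 1) ∨ ∀ X ∈ cent ρ N, ∃ c : K, X = c • 1

/-- one-parameter subgroups over the finite field `F` -/
structure OneP (F : Subfield K) {ι : Type*} (x : ι → F → G) : Prop where
  add : ∀ i s t, x i (s + t) = x i s * x i t
  gen : Subgroup.closure {g : G | ∃ i t, x i t = g} = ⊤

/-- the one-parameter subgroups act by polynomials of degree at most `e` -/
def PolyDeg (ρ : G →* Module.End K V) (F : Subfield K) {ι : Type*} (x : ι → F → G) (e : ℕ) : Prop :=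
  ∀ i, ∃ c : ℕ → Module.End K V, ∀ t : F, ρ (x i t) = ∑ j ∈ Finset.range (e + 1), (t : K) ^ j • c j

/-- `(tr σ y) ^ dim` lies in no proper subfield of `F` -/
def TrGen (F : Subfield K) (σ : G →* Module.End K V) (y : G) : Prop :=
  ∀ F' : Subfield K, F' < F → (LinearMap.trace K V (σ y)) ^ Module.finrank K V ∉ F'

/-- `a` is a root element of `H` : `a ^ 2 = 0` and `1 + t a ∈ H` for `t ∈ F` -/
def Rt (ρ : G →* Module.End K V) (F : Subfield K) (H : Subgroup G) (a : Module.End K V) : Prop :=
  a * a = 0 ∧ ∀ t ∈ F, ∃ g ∈ H, ρ g = 1 + t • a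

end rep

/-- quasisimple -/
structure QS (G : Type w) [Group G] : Prop where
  perf : commutator G = ⊤
  nt : Nontrivial G
  max : ∀ N : Subgroup G, N.Normal → N ≤ Subgroup.center G ∨ N = ⊤

/-- **everything the counting needs** -/
def Row (C q : ℕ) (G : Type w) [Group G] : Prop :=
  ∃ (K : Type u) (_ : Field K) (F : Subfield K) (ι : Type w) (x : ι → F → G)
    (V W W' : Type u) (_ : AddCommGroup V) (_ : Module K V) (_ : AddCommGroup W) (_ : Module K W)
    (_ : AddCommGroup W') (_ : Module K W')
    (R : G →* Module.End K V) (σ : G →* Module.End K W) (σ' : G →* Module.End K W'),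
    Finite F ∧ Nat.card F = q ∧ OneP F x ∧
    FiniteDimensional K V ∧ FiniteDimensional K W ∧ FiniteDimensional K W' ∧
    Module.finrank K V ≤ C ∧ Module.finrank K W ≤ C ∧ Module.finrank K W' ≤ C ∧
    PolyDeg R F x C ∧ PolyDeg σ F x C ∧ PolyDeg σ' F x C ∧
    (∃ g h : G, (LinearMap.trace K W (σ g)) ^ Module.finrank K W ≠ (LinearMap.trace K W (σ h)) ^ Module.finrank K W) ∧
    (∃ g h : G, (LinearMap.trace K W' (σ' g)) ^ Module.finrank K W' ≠
      (LinearMap.trace K W' (σ' h)) ^ Module.finrank K W') ∧
    (∀ k, 0 < k → k ≤ C → ∃ g : G, R (g ^ k) ≠ 1) ∧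
    ∀ H : Subgroup G, Dns R H → ∀ y ∈ H, (∀ k, 0 < k → k ≤ C → R (y ^ k) ≠ 1) → TrGen F σ y → TrGen F σ' y → H = ⊤

/-- **the theorem of Curtis and Richen** for the perfect central extension `M` of a simple group of Lie type of
characteristic `p`, `U` a Sylow `p`-subgroup: in an irreducible representation trivial on the centre, `U` fixes exactly
one line; the character of `N(U)` on this line and its stabiliser determine the representation. -/
structure CRG (p : ℕ) {M : Type w} [Group M] (U : Subgroup M) : Prop where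
  isP : IsPGroup p U
  ne : U ≠ ⊥
  one : ∀ (K : Type u) [Field K] [CharP K p] [IsAlgClosed K] (W : Type v) [AddCommGroup W] [Module K W]
    [FiniteDimensional K W] (σ : M →* Module.End K W), Irr σ ⊤ → (∀ z ∈ Subgroup.center M, σ z = 1) →
    ∃ w : W, w ≠ 0 ∧ ∀ v : W, (∀ u ∈ U, σ u v = v) ↔ ∃ c : K, v = c • w
  iso : ∀ (K : Type u) [Field K] [CharP K p] [IsAlgClosed K] (W W' : Type v) [AddCommGroup W] [Module K W]
    [FiniteDimensional K W] [AddCommGroup W'] [Module K W'] [FiniteDimensional K W']
    (σ : M →* Module.End K W) (σ' : M →* Module.End K W'), Irr σ ⊤ → Irr σ' ⊤ →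
    (∀ z ∈ Subgroup.center M, σ z = 1) → (∀ z ∈ Subgroup.center M, σ' z = 1) →
    ∀ (w : W) (w' : W'), w ≠ 0 → w' ≠ 0 → (∀ u ∈ U, σ u w = w) → (∀ u ∈ U, σ' u w' = w') →
    (∀ (b : M) (c : K), (∀ u ∈ U, b * u * b⁻¹ ∈ U) → (σ b w = c • w ↔ σ' b w' = c • w')) →
    (∀ g : M, (∃ c : K, σ g w = c • w) ↔ ∃ c : K, σ' g w' = c • w') →
    ∃ e : W ≃ₗ[K] W', ∀ g v, e (σ g v) = σ' g (e v)

end Cfsg.Agent.H883.BR
end

-- part: H212/BR/Gen
section
set_option linter.all false
open scoped Cfsg.Agent.FastGrp

/-!
# HUB BR: locally finite fields and the condition `count` (helper212)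

* `locfin` : a finite set of the algebraic closure of a finite field lies in a finite subfield;
* `finite_base`, `card_base`, `charP_closure` : the copy of `F` in its algebraic closure;
* `exists_subfield`, `exists_subfield_sq` : the subfield `x ^ q = x`;
* `count_of_card`, `count_of_index` : the condition `count` of `Fam`.
-/

set_option autoImplicit false

open Cfsg.Agent.H883.BR

namespace Cfsg.Agent.H212.BR

universe u w

/-! ### fields -/

theorem locfin (F : Type u) [Field F] [Finite F] : ∀ S : Set (AlgebraicClosure F), S.Finite →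
    ∃ E : Subfield (AlgebraicClosure F), Finite E ∧ S ⊆ E := by
  intro S hS
  have : Finite S := hS
  have h1 : FiniteDimensional F (IntermediateField.adjoin F S) :=
    IntermediateField.finiteDimensional_adjoin fun x _ => Algebra.IsIntegral.isIntegral x
  have h2 : Finite (IntermediateField.adjoin F S) := Module.finite_of_finite F
  exact ⟨(IntermediateField.adjoin F S).toSubfield, h2, IntermediateField.subset_adjoin F S⟩

/-- the copy of `F` in its algebraic closure -/
noncomputable abbrev base (F : Type u) [Field F] : Subfield (AlgebraicClosure F) := (algebraMap F (AlgebraicClosure F)).fieldRange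

theorem mem_base (F : Type u) [Field F] {x : AlgebraicClosure F} :
    x ∈ base F ↔ ∃ a : F, algebraMap F (AlgebraicClosure F) a = x := RingHom.mem_fieldRange

/-- `F` and its copy -/
noncomputable def baseEquiv (F : Type u) [Field F] : F ≃+* base F :=
  RingEquiv.ofBijective (algebraMap F (AlgebraicClosure F)).rangeRestrictField
    (algebraMap F (AlgebraicClosure F)).rangeRestrictField_bijective

theorem baseEquiv_apply (F : Type u) [Field F] (a : F) :
    ((baseEquiv F a : base F) : AlgebraicClosure F) = algebraMap F (AlgebraicClosure F) a := rfl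

theorem finite_base (F : Type u) [Field F] [Finite F] : Finite (base F) := Finite.of_equiv F (baseEquiv F).toEquiv

theorem card_base (F : Type u) [Field F] : Nat.card (base F) = Nat.card F :=
  (Nat.card_congr (baseEquiv F).toEquiv).symm

theorem charP_closure (F : Type u) [Field F] (p : ℕ) [CharP F p] : CharP (AlgebraicClosure F) p :=
  charP_of_injective_algebraMap (algebraMap F (AlgebraicClosure F)).injective p

/-- The subfield with `p ^ k` elements. -/
theorem exists_subfield {K : Type u} [Field K] [IsAlgClosed K] {p k : ℕ} [hp : Fact p.Prime] [CharP K p]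
    (hk : 0 < k) : ∃ E : Subfield K, Nat.card E = p ^ k ∧ ∀ x, x ∈ E ↔ x ^ (p ^ k) = x := by
  classical
  let E : Subfield K :=
    { carrier := {x | x ^ (p ^ k) = x}
      mul_mem' := fun {a b} ha hb => by
        change (a * b) ^ (p ^ k) = a * b
        rw [mul_pow, show a ^ (p ^ k) = a from ha, show b ^ (p ^ k) = b from hb]
      one_mem' := one_pow _
      add_mem' := fun {a b} ha hb => by
        change (a + b) ^ (p ^ k) = a + b
        rw [add_pow_char_pow, show a ^ (p ^ k) = a from ha, show b ^ (p ^ k) = b from hb]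
      zero_mem' := zero_pow (pow_ne_zero _ hp.out.ne_zero)
      neg_mem' := fun {a} ha => by
        change (-a) ^ (p ^ k) = -a
        have h1 : (0 - a) ^ (p ^ k) = 0 ^ (p ^ k) - a ^ (p ^ k) := sub_pow_char_pow ..
        rw [zero_sub, zero_pow (pow_ne_zero _ hp.out.ne_zero), show a ^ (p ^ k) = a from ha, zero_sub] at h1
        exact h1
      inv_mem' := fun a ha => by
        change a⁻¹ ^ (p ^ k) = a⁻¹
        rw [inv_pow, show a ^ (p ^ k) = a from ha] }
  refine ⟨E, ?_, fun x => Iff.rfl⟩
  have hq : 1 < p ^ k := Nat.one_lt_pow hk.ne' hp.out.one_lt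
  have hsep : (Polynomial.X ^ (p ^ k) - Polynomial.X : Polynomial K).Separable :=
    galois_poly_separable p (p ^ k) (dvd_pow_self p hk.ne')
  have hne : (Polynomial.X ^ (p ^ k) - Polynomial.X : Polynomial K) ≠ 0 := FiniteField.X_pow_card_sub_X_ne_zero K hq
  have h1 : Fintype.card ((Polynomial.X ^ (p ^ k) - Polynomial.X : Polynomial K).rootSet K) = p ^ k := by
    rw [Polynomial.card_rootSet_eq_natDegree hsep (IsAlgClosed.splits _), FiniteField.X_pow_card_sub_X_natDegree_eq K hq]
  rw [← h1, ← Nat.card_eq_fintype_card]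
  refine Nat.card_congr (Equiv.subtypeEquivRight fun x => ?_)
  rw [Polynomial.mem_rootSet]
  constructor
  · intro hx
    refine ⟨hne, ?_⟩
    have h2 : x ^ (p ^ k) = x := hx
    simp [h2]
  · rintro ⟨-, hx⟩
    have h2 : x ^ (p ^ k) - x = 0 := by simpa using hx
    exact sub_eq_zero.1 h2

/-- `|F| = q ^ 2` : the subfield with `q` elements. -/
theorem exists_subfield_sq (F : Type u) [Field F] [Finite F] {q : ℕ} (hq : Nat.card F = q ^ 2) :
    ∃ E : Subfield (AlgebraicClosure F), Finite E ∧ Nat.card E = q ∧ (∀ x, x ∈ E ↔ x ^ q = x) ∧ E ≤ base F := by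
  classical
  have := Fintype.ofFinite F
  obtain ⟨p, hc⟩ := CharP.exists F
  have hp : Fact p.Prime := ⟨CharP.char_is_prime F p⟩
  have := charP_closure F p
  obtain ⟨n, -, hn⟩ := FiniteField.card F p
  rw [← Nat.card_eq_fintype_card, hq] at hn
  have h1 : q ∣ p ^ (n : ℕ) := by rw [← hn]; exact dvd_pow_self q two_ne_zero
  obtain ⟨k, hk, rfl⟩ := (Nat.dvd_prime_pow hp.out).1 h1
  have hk0 : 0 < k := by
    rcases Nat.eq_zero_or_pos k with h | h
    · rw [h, pow_zero, one_pow] at hn
      have h2 := Nat.one_lt_pow n.pos.ne' hp.out.one_lt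
      omega
    · exact h
  obtain ⟨E, hE, hmem⟩ := exists_subfield (K := AlgebraicClosure F) (p := p) hk0
  have hfin : Finite E := Nat.finite_of_card_ne_zero (by rw [hE]; exact pow_ne_zero _ hp.out.ne_zero)
  refine ⟨E, hfin, hE, hmem, ?_⟩
  -- the elements of `base F` are the roots of `X ^ (q ^ 2) - X`
  obtain ⟨E', hE', hmem'⟩ := exists_subfield (K := AlgebraicClosure F) (p := p) n.pos
  have hfin' : Finite E' := Nat.finite_of_card_ne_zero (by rw [hE']; exact pow_ne_zero _ hp.out.ne_zero)
  have h2 : base F ≤ E' := by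
    intro x hx
    obtain ⟨a, rfl⟩ := (mem_base F).1 hx
    rw [hmem', ← map_pow]
    congr 1
    have h3 := FiniteField.pow_card a
    rwa [← Nat.card_eq_fintype_card, hq, hn] at h3
  have h3 : (base F : Set (AlgebraicClosure F)) = E' := by
    apply Set.eq_of_subset_of_ncard_le h2 _ (Set.toFinite _)
    have h4 : (E' : Set (AlgebraicClosure F)).ncard = p ^ (n : ℕ) := hE'
    have h5 : (base F : Set (AlgebraicClosure F)).ncard = p ^ (n : ℕ) := by
      have := card_base F
      rw [hq, hn] at this
      exact this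
    rw [h4, h5]
  intro x hx
  have h4 : x ∈ (base F : Set (AlgebraicClosure F)) := by
    rw [h3]
    show x ∈ E'
    have h5 := (hmem x).1 hx
    rw [hmem', ← hn, pow_two, pow_mul, h5, h5]
  exact h4

/-! ### the condition `count` -/

theorem pow_le_choose {q d : ℕ} (hq : 0 < q) : q ^ d ≤ d.factorial * Nat.choose (q - 1 + d) d := by
  have h1 := Nat.pow_succ_le_ascFactorial q d
  have h2 := Nat.ascFactorial_eq_factorial_mul_choose (q - 1) d
  rw [Nat.sub_add_cancel hq] at h2
  rw [← h2]
  exact h1

/-- `count` from a bound for the index. -/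
theorem count_of_lt {q d c e : ℕ} {G : Type w} [Group G] [Finite G] (hq : 0 < q)
    (hG : Nat.card G ≤ c * q ^ (d + e)) {M : Subgroup G} (hM : c * d.factorial * q ^ e < M.index) :
    Nat.card M < Nat.choose (q - 1 + d) d := by
  by_contra hcon
  push Not at hcon
  have h1 := M.card_mul_index
  have h2 := pow_le_choose (q := q) (d := d) hq
  have hMpos : 0 < Nat.card M := Nat.card_pos
  have h3 : Nat.card M * (c * d.factorial * q ^ e) < c * q ^ (d + e) := by
    calc Nat.card M * (c * d.factorial * q ^ e) < Nat.card M * M.index := Nat.mul_lt_mul_of_pos_left hM hMpos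
      _ = Nat.card G := h1
      _ ≤ c * q ^ (d + e) := hG
  have h4 : c * q ^ (d + e) ≤ Nat.card M * (c * d.factorial * q ^ e) := by
    calc c * q ^ (d + e) = c * q ^ e * q ^ d := by rw [pow_add]; ring
      _ ≤ c * q ^ e * (d.factorial * Nat.choose (q - 1 + d) d) := Nat.mul_le_mul_left _ h2
      _ ≤ c * q ^ e * (d.factorial * Nat.card M) := Nat.mul_le_mul_left _ (Nat.mul_le_mul_left _ hcon)
      _ = Nat.card M * (c * d.factorial * q ^ e) := by ring
  omega

/-- The index of a proper subgroup of a quasisimple group. -/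
theorem card_le_factorial {G : Type w} [Group G] [Finite G] (hG : QS G) {M : Subgroup G} (hM : M ≠ ⊤) :
    Nat.card (G ⧸ Subgroup.center G) ≤ M.index.factorial := by
  classical
  have hfin : Finite (G ⧸ M) := inferInstance
  have := Fintype.ofFinite (G ⧸ M)
  have h1 : M.normalCore ≤ Subgroup.center G := by
    rcases hG.max M.normalCore inferInstance with h | h
    · exact h
    · exact absurd (eq_top_iff.2 (h ▸ M.normalCore_le)) hM
  have h2 : M.normalCore.index ≤ M.index.factorial := by
    have h3 : M.normalCore = (MulAction.toPermHom G (G ⧸ M)).ker := Subgroup.normalCore_eq_ker M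
    rw [h3, Subgroup.index_ker]
    have h4 : Nat.card (MulAction.toPermHom G (G ⧸ M)).range ≤ Nat.card (Equiv.Perm (G ⧸ M)) :=
      Subgroup.card_le_card_group _
    rw [Nat.card_eq_fintype_card (α := Equiv.Perm (G ⧸ M)), Fintype.card_perm, ← Nat.card_eq_fintype_card] at h4
    exact h4
  have h3 : (Subgroup.center G).index ≤ M.normalCore.index := by
    have h4 := Subgroup.index_antitone (H := M.normalCore) (K := Subgroup.center G) h1
    exact h4
  exact h3.trans h2

/-- **`count` for a group with `|G| ≤ c q ^ d`.** -/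
theorem count_of_card (d c : ℕ) : ∃ q₀ : ℕ, ∀ (q : ℕ) (G : Type w) [Group G] [Finite G], q₀ ≤ q → QS G →
    q ≤ Nat.card (G ⧸ Subgroup.center G) → Nat.card G ≤ c * q ^ d → ∀ M : Subgroup G, M ≠ ⊤ →
    Nat.card M < Nat.choose (q - 1 + d) d := by
  refine ⟨(c * d.factorial).factorial + 1, fun q G _ _ hq hG hqG hcard M hM => ?_⟩
  refine count_of_lt (e := 0) (c := c) (by omega) (by simpa using hcard) ?_
  rw [pow_zero, mul_one]
  by_contra hcon
  push Not at hcon
  have h1 := card_le_factorial hG hM
  have h2 := Nat.factorial_le hcon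
  omega

/-- **`count` for a group with `|G| ≤ c q ^ (d + 1)`.** -/
theorem count_of_index {d c q : ℕ} {G : Type w} [Group G] [Finite G] (hq : 0 < q)
    (hcard : Nat.card G ≤ c * q ^ (d + 1)) (hidx : ∀ M : Subgroup G, M ≠ ⊤ → c * d.factorial * q < M.index) :
    ∀ M : Subgroup G, M ≠ ⊤ → Nat.card M < Nat.choose (q - 1 + d) d := fun M hM =>
  count_of_lt (e := 1) (c := c) hq hcard (by rw [pow_one]; exact hidx M hM)

end Cfsg.Agent.H212.BR
end

-- part: H601/BR/Fld
section
set_option linter.all false
open scoped Cfsg.Agent.FastGrp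

/-!
# HUB BR (S5715, S5716), D3 and D4: the field of the traces, full root groups
-/

set_option autoImplicit false
set_option linter.unusedVariables false

namespace Cfsg.Agent.H601.BR

open Cfsg.Agent.H883.BR

universe u v w

/-! ### The twist of a module by an automorphism of the field -/

section Tw

variable {K : Type u} [Field K]

/-- `W` with `K` acting through `θ⁻¹` -/
@[ext] structure Tw (θ : K ≃+* K) (W : Type v) : Type v where
  val : W

variable (θ : K ≃+* K) {W : Type v} [AddCommGroup W]

/-- the identity -/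
def eqv : Tw θ W ≃ W := ⟨Tw.val, Tw.mk, fun _ => rfl, fun _ => rfl⟩

instance : AddCommGroup (Tw θ W) := (eqv θ).addCommGroup

theorem val_add (x y : Tw θ W) : (x + y).val = x.val + y.val := rfl
variable [Module K W]

instance : Module K (Tw θ W) where
  smul c x := ⟨θ.symm c • x.val⟩
  one_smul x := Tw.ext (by show θ.symm 1 • x.val = _; rw [map_one, one_smul])
  mul_smul c d x := Tw.ext (by
    show θ.symm (c * d) • x.val = θ.symm c • θ.symm d • x.val
    rw [map_mul, mul_smul])
  smul_zero c := Tw.ext (by show θ.symm c • (0 : W) = 0; rw [smul_zero])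
  smul_add c x y := Tw.ext (by
    show θ.symm c • (x.val + y.val) = θ.symm c • x.val + θ.symm c • y.val
    rw [smul_add])
  add_smul c d x := Tw.ext (by
    show θ.symm (c + d) • x.val = θ.symm c • x.val + θ.symm d • x.val
    rw [map_add, add_smul])
  zero_smul x := Tw.ext (by show θ.symm 0 • x.val = 0; rw [map_zero, zero_smul])

theorem val_smul (c : K) (x : Tw θ W) : (c • x).val = θ.symm c • x.val := rfl

/-- the same map on the twisted module -/
def twE (T : Module.End K W) : Module.End K (Tw θ W) where
  toFun v := ⟨T v.val⟩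
  map_add' x y := Tw.ext (by show T (x.val + y.val) = T x.val + T y.val; rw [map_add])
  map_smul' c x := Tw.ext (by
    show T (θ.symm c • x.val) = θ.symm c • T x.val
    rw [map_smul])

theorem val_twE (T : Module.End K W) (v : Tw θ W) : (twE θ T v).val = T v.val := rfl

/-- the twisted representation -/
def twR {G : Type*} [Group G] (σ : G →* Module.End K W) : G →* Module.End K (Tw θ W) where
  toFun g := twE θ (σ g)
  map_one' := by
    refine LinearMap.ext fun v => Tw.ext ?_
    rw [val_twE, map_one]; rfl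
  map_mul' g h := by
    refine LinearMap.ext fun v => Tw.ext ?_
    rw [val_twE, map_mul]; rfl

/-- the twisted coordinates -/
noncomputable def twC {ι : Type*} [Finite ι] (b : Module.Basis ι K W) : Tw θ W ≃ₗ[K] (ι → K) where
  toFun v i := θ (b.equivFun v.val i)
  map_add' x y := by
    funext i
    rw [val_add, map_add, Pi.add_apply, map_add]
    rfl
  map_smul' c x := by
    funext i
    rw [val_smul, map_smul, Pi.smul_apply, smul_eq_mul, map_mul, RingEquiv.apply_symm_apply]
    rfl
  invFun f := ⟨b.equivFun.symm fun i => θ.symm (f i)⟩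
  left_inv v := Tw.ext (by
    simp only [RingEquiv.symm_apply_apply]
    exact b.equivFun.symm_apply_apply v.val)
  right_inv f := by
    funext i
    simp only [LinearEquiv.apply_symm_apply, RingEquiv.apply_symm_apply]

/-- the twisted basis -/
noncomputable def twB {ι : Type*} [Finite ι] (b : Module.Basis ι K W) : Module.Basis ι K (Tw θ W) :=
  Module.Basis.ofEquivFun (twC θ b)

instance [FiniteDimensional K W] : FiniteDimensional K (Tw θ W) :=
  Module.Finite.of_basis (twB θ (Module.finBasis K W))

theorem twB_repr {ι : Type*} [Finite ι] (b : Module.Basis ι K W) (v : Tw θ W) (i : ι) :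
    (twB θ b).repr v i = θ (b.repr v.val i) := by
  have : (twB θ b).equivFun v i = θ (b.equivFun v.val i) := by
    rw [twB, Module.Basis.equivFun_ofEquivFun]
    rfl
  simpa using this

theorem twB_apply {ι : Type*} [Finite ι] (b : Module.Basis ι K W) (i : ι) : (twB θ b i).val = b i := by
  classical
  apply b.repr.injective
  ext j
  apply θ.injective
  rw [← twB_repr, Module.Basis.repr_self, Module.Basis.repr_self, Finsupp.single_apply]
  split_ifs
  · rw [map_one]
  · rw [map_zero]

theorem toMatrix_twE {ι : Type*} [Fintype ι] [DecidableEq ι] (b : Module.Basis ι K W) (T : Module.End K W) :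
    LinearMap.toMatrix (twB θ b) (twB θ b) (twE θ T) = (LinearMap.toMatrix b b T).map θ := by
  ext i j
  rw [LinearMap.toMatrix_apply, twB_repr, val_twE, twB_apply, Matrix.map_apply, LinearMap.toMatrix_apply]

theorem trace_twE [FiniteDimensional K W] (T : Module.End K W) :
    LinearMap.trace K (Tw θ W) (twE θ T) = θ (LinearMap.trace K W T) := by
  rw [LinearMap.trace_eq_matrix_trace K (twB θ (Module.finBasis K W)),
    LinearMap.trace_eq_matrix_trace K (Module.finBasis K W), toMatrix_twE]
  exact (AddMonoidHom.map_trace (θ : K →+ K) _).symm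

theorem det_twE [FiniteDimensional K W] (T : Module.End K W) :
    LinearMap.det (twE θ T) = θ (LinearMap.det T) := by
  rw [← LinearMap.det_toMatrix (twB θ (Module.finBasis K W)), ← LinearMap.det_toMatrix (Module.finBasis K W),
    toMatrix_twE]
  exact (RingHom.map_det (θ : K →+* K) _).symm

theorem finrank_tw [FiniteDimensional K W] : Module.finrank K (Tw θ W) = Module.finrank K W := by
  rw [Module.finrank_eq_card_basis (twB θ (Module.finBasis K W)), Fintype.card_fin]

end Tw

/-! ### The Frobenius automorphism of a finite subfield -/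

section Frob

/-- a finite subfield is the fixed field of an automorphism -/
theorem exists_frob (p : ℕ) [Fact p.Prime] {K : Type u} [Field K] [CharP K p] [IsAlgClosed K] (F₁ : Subfield K)
    [Finite F₁] : ∃ θ : K ≃+* K, ∀ x : K, θ x = x ↔ x ∈ F₁ := by
  classical
  let _ := Fintype.ofFinite F₁
  have hc : CharP F₁ p := (F₁.subtype).charP F₁.subtype.injective p
  obtain ⟨n, hp, hn⟩ := FiniteField.card F₁ p
  refine ⟨iterateFrobeniusEquiv K p n, fun x => ?_⟩
  rw [iterateFrobeniusEquiv_apply, iterateFrobenius_def, ← hn]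
  have hmem : ∀ y ∈ F₁, y ^ Fintype.card F₁ = y := by
    intro y hy
    exact congrArg Subtype.val (FiniteField.pow_card (⟨y, hy⟩ : F₁))
  refine ⟨fun hx => ?_, hmem x⟩
  by_contra hxF
  have h1 : 1 < Fintype.card F₁ := Fintype.one_lt_card
  have h0 := FiniteField.X_pow_card_sub_X_ne_zero K h1
  have hdeg := FiniteField.X_pow_card_sub_X_natDegree_eq K h1
  let S : Finset K := insert x ((Finset.univ : Finset F₁).map ⟨Subtype.val, Subtype.val_injective⟩)
  have hS : S.val ⊆ (Polynomial.X ^ Fintype.card F₁ - Polynomial.X : Polynomial K).roots := by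
    intro y hy
    rw [Polynomial.mem_roots h0, Polynomial.IsRoot.def, Polynomial.eval_sub, Polynomial.eval_pow, Polynomial.eval_X,
      sub_eq_zero]
    rcases Finset.mem_insert.1 (show y ∈ S from hy) with rfl | hy
    · exact hx
    · rw [Finset.mem_map] at hy
      obtain ⟨z, -, rfl⟩ := hy
      exact hmem _ z.2
  have h2 := Polynomial.card_le_degree_of_subset_roots hS
  rw [hdeg, Finset.card_insert_of_notMem, Finset.card_map, Finset.card_univ] at h2
  · omega
  · rw [Finset.mem_map]
    rintro ⟨z, -, hz⟩
    exact hxF (hz ▸ z.2)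

end Frob

/-! ### D3 -/

section D3

/-- Schur's lemma for `σ` restricted to a subgroup -/
theorem schur {K : Type u} [Field K] [IsAlgClosed K] {G : Type w} [Group G] {W : Type v} [AddCommGroup W] [Module K W]
    [FiniteDimensional K W] {σ : G →* Module.End K W} {M : Subgroup G} (h : Irr σ M) {X : Module.End K W}
    (hX : ∀ m ∈ M, X * σ m = σ m * X) : ∃ c : K, X = c • 1 := by
  have := h.1
  obtain ⟨c, hc⟩ := Module.End.exists_eigenvalue X
  refine ⟨c, ?_⟩
  have hinv : Inv σ M (Module.End.eigenspace X c) := by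
    intro m hm v hv
    rw [Module.End.mem_eigenspace_iff] at hv ⊢
    have := congrArg (fun T : Module.End K W => T v) (hX m hm)
    simp only [Module.End.mul_apply] at this
    rw [this, hv, map_smul]
  rcases h.2 _ hinv with h1 | h1
  · exact absurd h1 hc
  · refine LinearMap.ext fun v => ?_
    have : v ∈ Module.End.eigenspace X c := by rw [h1]; trivial
    rw [Module.End.mem_eigenspace_iff] at this
    rw [this]
    rfl

theorem irr_comp {K : Type u} [Field K] {G : Type w} [Group G] {W : Type v} [AddCommGroup W] [Module K W]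
    {σ : G →* Module.End K W} {M : Subgroup G} (h : Irr σ M) : Irr (σ.comp M.subtype) ⊤ :=
  ⟨h.1, fun U hU => h.2 U fun m hm v hv => hU ⟨m, hm⟩ trivial v hv⟩

theorem irr_twR {K : Type u} [Field K] (θ : K ≃+* K) {G : Type w} [Group G] {W : Type v} [AddCommGroup W] [Module K W]
    {σ : G →* Module.End K W} {M : Subgroup G} (h : Irr σ M) : Irr (twR θ σ) M := by
  have hnt := h.1
  refine ⟨(eqv θ (W := W)).nontrivial, fun U hU => ?_⟩
  let U' : Submodule K W :=
    { carrier := {v | (⟨v⟩ : Tw θ W) ∈ U}
      zero_mem' := U.zero_mem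
      add_mem' := fun hx hy => U.add_mem hx hy
      smul_mem' := fun c x hx => by
        have := U.smul_mem (θ c) hx
        have e : θ c • (⟨x⟩ : Tw θ W) = ⟨c • x⟩ := Tw.ext (by rw [val_smul, RingEquiv.symm_apply_apply])
        rwa [e] at this }
  rcases h.2 U' (fun m hm v hv => hU m hm ⟨v⟩ hv) with h1 | h1
  · left
    rw [eq_bot_iff]
    intro x hx
    have : x.val ∈ U' := hx
    rw [h1, Submodule.mem_bot] at this
    rw [Submodule.mem_bot]
    exact Tw.ext this
  · right
    rw [eq_top_iff]
    intro x _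
    have : x.val ∈ U' := by rw [h1]; trivial
    exact this

/-- **D3**: the field of the traces -/
theorem fld {p : ℕ} [Fact p.Prime] {K : Type u} [Field K] [CharP K p] [IsAlgClosed K] {G : Type w} [Group G]
    [Finite G] {W : Type v} [AddCommGroup W] [Module K W] [FiniteDimensional K W] (σ : G →* Module.End K W)
    {H M : Subgroup G} (hMH : M ≤ H) (hn : ∀ h ∈ H, ∀ m ∈ M, h * m * h⁻¹ ∈ M) {U : Subgroup M}
    (hc : CRG.{u, v, w} p U) (hirr : Irr σ M) (hz : ∀ z : M, z ∈ Subgroup.center M → σ z = 1) {w : W} (hw : w ≠ 0)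
    (hu : ∀ u ∈ U, σ (u : G) w = w) (F₁ : Subfield K) [Finite F₁]
    (hF : ∀ (b : M) (c : K), (∀ u ∈ U, b * u * b⁻¹ ∈ U) → σ (b : G) w = c • w → c ∈ F₁)
    (hdet : ∀ h ∈ H, LinearMap.det (σ h) = 1) :
    ∀ h ∈ H, (LinearMap.trace K W (σ h)) ^ Module.finrank K W ∈ F₁ := by
  obtain ⟨θ, hθ⟩ := exists_frob p F₁
  have hθ' : ∀ x ∈ F₁, θ.symm x = x := fun x hx => by
    rw [RingEquiv.symm_apply_eq]; exact ((hθ x).2 hx).symm
  have hw' : (⟨w⟩ : Tw θ W) ≠ 0 := fun h => hw (congrArg Tw.val h)
  obtain ⟨e, he⟩ := hc.iso K W (Tw θ W) (σ.comp M.subtype) ((twR θ σ).comp M.subtype) (irr_comp hirr)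
    (irr_comp (irr_twR θ hirr)) (fun z hzz => hz z hzz) (fun z hzz => by
      refine LinearMap.ext fun v => Tw.ext ?_
      show σ z v.val = v.val
      rw [hz z hzz]; rfl) w ⟨w⟩ hw hw' hu (fun u hu' => Tw.ext (hu u hu')) (fun b c hb => by
      constructor
      · intro h
        refine Tw.ext ?_
        show σ b w = θ.symm c • w
        rw [hθ' c (hF b c hb h)]; exact h
      · intro h
        have h1 : σ b w = θ.symm c • w := congrArg Tw.val h
        have h2 : θ.symm c ∈ F₁ := hF b _ hb h1
        have h3 : c = θ.symm c := by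
          have := (hθ _).2 h2
          rw [RingEquiv.apply_symm_apply] at this
          exact this
        show σ b w = c • w
        rw [h3]; exact h1) (fun g => by
      constructor
      · rintro ⟨c, hc⟩
        refine ⟨θ c, Tw.ext ?_⟩
        show σ g w = θ.symm (θ c) • w
        rw [RingEquiv.symm_apply_apply]; exact hc
      · rintro ⟨c, hc⟩
        exact ⟨θ.symm c, congrArg Tw.val hc⟩)
  have he' : ∀ m ∈ M, ∀ v : W, e (σ m v) = twR θ σ m (e v) := fun m hm v => he ⟨m, hm⟩ v
  intro h hh
  -- the intertwiner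
  obtain ⟨c, hc⟩ := schur hirr (X := (e.symm : Tw θ W →ₗ[K] W) ∘ₗ (twR θ σ h⁻¹) ∘ₗ (e : W →ₗ[K] Tw θ W) ∘ₗ σ h)
    (fun m hm => by
      refine LinearMap.ext fun v => ?_
      show e.symm (twR θ σ h⁻¹ (e (σ h (σ m v)))) = σ m (e.symm (twR θ σ h⁻¹ (e (σ h v))))
      have h1 : σ h (σ m v) = σ (h * m * h⁻¹) (σ h v) := by
        rw [← Module.End.mul_apply, ← Module.End.mul_apply, ← map_mul, ← map_mul]
        congr 2; group
      have h2 : ∀ x : Tw θ W, twR θ σ h⁻¹ (twR θ σ (h * m * h⁻¹) x) = twR θ σ m (twR θ σ h⁻¹ x) := fun x => by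
        rw [← Module.End.mul_apply, ← Module.End.mul_apply, ← map_mul, ← map_mul]
        congr 2; group
      rw [h1, he' _ (hn h hh m hm), h2, LinearEquiv.symm_apply_eq, he' m hm, LinearEquiv.apply_symm_apply])
  have key : ∀ v : W, e (σ h v) = c • twR θ σ h (e v) := by
    intro v
    have h1 : e.symm (twR θ σ h⁻¹ (e (σ h v))) = c • v := congrArg (fun T : Module.End K W => T v) hc
    rw [LinearEquiv.symm_apply_eq, map_smul] at h1
    have h2 := congrArg (twR θ σ h) h1
    rw [← Module.End.mul_apply, ← map_mul, mul_inv_cancel, map_one, map_smul] at h2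
    exact h2
  have hconj : (e : W →ₗ[K] Tw θ W) ∘ₗ σ h ∘ₗ (e.symm : Tw θ W →ₗ[K] W) = c • twE θ (σ h) := by
    refine LinearMap.ext fun v => ?_
    show e (σ h (e.symm v)) = c • twR θ σ h v
    rw [key, LinearEquiv.apply_symm_apply]
  have htr : LinearMap.trace K W (σ h) = c * θ (LinearMap.trace K W (σ h)) := by
    have h1 := LinearMap.trace_conj' (σ h) e
    rw [LinearEquiv.conj_apply, LinearMap.comp_assoc, hconj, map_smul, trace_twE, smul_eq_mul] at h1
    exact h1.symm
  have hdt : (1 : K) = c ^ Module.finrank K W := by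
    have h1 := LinearMap.det_conj (σ h) e
    rw [hconj, LinearMap.det_smul, det_twE, hdet h hh, map_one, mul_one, finrank_tw] at h1
    exact h1.symm
  rw [← hθ, map_pow]
  have h5 := congrArg (fun x => x ^ Module.finrank K W) htr
  simp only [mul_pow] at h5
  rw [← hdt, one_mul] at h5
  exact h5.symm

end D3

/-! ### D4 -/

section D4

/-- a finite subfield generated by a set is generated by it as a ring -/
theorem closure_le_subring {K : Type u} [Field K] {C : Set K} [Finite (Subfield.closure C)] {x : K}
    (hx : x ∈ Subfield.closure C) : x ∈ Subring.closure C := by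
  classical
  let _ := Fintype.ofFinite (Subfield.closure C)
  have hle : Subring.closure C ≤ (Subfield.closure C).toSubring := Subring.closure_le.2 Subfield.subset_closure
  induction hx using Subfield.closure_induction with
  | mem x hx => exact Subring.subset_closure hx
  | one => exact one_mem _
  | add x y _ _ hx hy => exact add_mem hx hy
  | neg x _ hx => exact neg_mem hx
  | inv x hx' hx =>
    by_cases h0 : x = 0
    · rw [h0, inv_zero]; exact zero_mem _
    have h1 : 1 < Fintype.card (Subfield.closure C) := Fintype.one_lt_card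
    have h2 : x ^ (Fintype.card (Subfield.closure C) - 1) = 1 := by
      have := FiniteField.pow_card_sub_one_eq_one (⟨x, hx'⟩ : Subfield.closure C)
        (fun h => h0 (congrArg Subtype.val h))
      exact congrArg Subtype.val this
    have h3 : x⁻¹ = x ^ (Fintype.card (Subfield.closure C) - 2) := by
      apply inv_eq_of_mul_eq_one_right
      rw [← pow_succ', show Fintype.card (Subfield.closure C) - 2 + 1 = Fintype.card (Subfield.closure C) - 1 by omega,
        h2]
    rw [h3]
    exact pow_mem hx _
  | mul x y _ _ hx hy => exact mul_mem hx hy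

/-- **D4**: the full root group -/
theorem root_full {p : ℕ} [Fact p.Prime] {K : Type u} [Field K] [CharP K p] [IsAlgClosed K]
    (lf : ∀ S : Set K, S.Finite → ∃ E : Subfield K, Finite E ∧ S ⊆ E) {F : Subfield K} [Finite F] {G : Type w}
    [Group G] [Finite G] {V : Type v} [AddCommGroup V] [Module K V] (ρ : G →* Module.End K V)
    {W : Type v} [AddCommGroup W] [Module K W] [FiniteDimensional K W] (σ : G →* Module.End K W)
    {H M : Subgroup G} (hMH : M ≤ H) (hn : ∀ h ∈ H, ∀ m ∈ M, h * m * h⁻¹ ∈ M) {U : Subgroup M}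
    (hc : CRG.{u, v, w} p U) (hirr : Irr σ M) (hz : ∀ z : M, z ∈ Subgroup.center M → σ z = 1) {w : W} (hw : w ≠ 0)
    (hu : ∀ u ∈ U, σ (u : G) w = w) (hdet : ∀ h ∈ H, LinearMap.det (σ h) = 1) {a : Module.End K V} (ha : a * a = 0)
    (ha1 : ∃ z ∈ M, ρ z = 1 + a)
    (hb : ∀ (b : M) (c : K), (∀ u ∈ U, b * u * b⁻¹ ∈ U) → σ (b : G) w = c • w → ad ρ (b : G) a = c • a)
    {y : G} (hy : y ∈ H) (htr : TrGen F σ y) (hyF : (LinearMap.trace K W (σ y)) ^ Module.finrank K W ∈ F) :
    ∀ t ∈ F, ∃ m ∈ M, ρ m = 1 + t • a := by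
  classical
  -- the eigenvalues of `N(U)` on `w`
  let C : Set K := {c | ∃ b : M, (∀ u ∈ U, b * u * b⁻¹ ∈ U) ∧ σ (b : G) w = c • w}
  have hCfin : C.Finite := by
    have h1 : C ⊆ ⋃ b : M, {c | σ (b : G) w = c • w} := by
      rintro c ⟨b, -, hb⟩
      exact Set.mem_iUnion.2 ⟨b, hb⟩
    refine (Set.finite_iUnion fun b => ?_).subset h1
    apply Set.Subsingleton.finite
    intro c hc c' hc'
    have : (c : K) • w = c' • w := Eq.trans (Eq.symm hc) hc'
    exact smul_left_injective K hw this
  obtain ⟨E, hE, hCE⟩ := lf C hCfin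
  have hle : Subfield.closure C ≤ E := Subfield.closure_le.2 hCE
  have hfin : Finite (Subfield.closure C) := Finite.of_injective (Subfield.inclusion hle) (RingHom.injective _)
  have h1 := fld σ hMH hn hc hirr hz hw hu (Subfield.closure C)
    (fun b c hbu hbw => Subfield.subset_closure ⟨b, hbu, hbw⟩) hdet y hy
  have hF : F ≤ Subfield.closure C := by
    by_contra hcon
    refine htr (F ⊓ Subfield.closure C) (lt_of_le_of_ne inf_le_left fun h => hcon ?_) ⟨hyF, h1⟩
    rw [← h]
    exact inf_le_right
  -- the coefficients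
  have key : ∀ x ∈ Subring.closure C, ∀ f : K, (∃ m ∈ M, ρ m = 1 + f • a) → ∃ m ∈ M, ρ m = 1 + (x * f) • a := by
    intro x hx
    induction hx using Subring.closure_induction with
    | mem x hx =>
      rintro f ⟨m, hm, hmf⟩
      obtain ⟨b, hbu, hbw⟩ := hx
      refine ⟨b * m * (b : G)⁻¹, M.mul_mem (M.mul_mem b.2 hm) (M.inv_mem b.2), ?_⟩
      have h2 := hb b x hbu hbw
      rw [ad_apply] at h2
      rw [map_mul, map_mul, hmf, mul_add, add_mul, mul_one, ← map_mul, mul_inv_cancel, map_one, mul_smul_comm,
        smul_mul_assoc, h2, smul_smul, mul_comm f x]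
    | zero =>
      rintro f -
      exact ⟨1, M.one_mem, by rw [map_one, zero_mul, zero_smul, add_zero]⟩
    | one =>
      rintro f hf
      rw [one_mul]; exact hf
    | add x y _ _ hx hy =>
      rintro f hf
      obtain ⟨m, hm, hmf⟩ := hx f hf
      obtain ⟨m', hm', hmf'⟩ := hy f hf
      refine ⟨m * m', M.mul_mem hm hm', ?_⟩
      rw [map_mul, hmf, hmf', mul_add, mul_one, add_mul, one_mul, smul_mul_smul_comm, ha, smul_zero, add_zero, add_assoc,
        ← add_smul, ← add_mul]
    | neg x _ hx =>
      rintro f hf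
      obtain ⟨m, hm, hmf⟩ := hx f hf
      refine ⟨m⁻¹, M.inv_mem hm, ?_⟩
      have h2 : ρ m * (1 + (-x * f) • a) = 1 := by
        rw [hmf, mul_add, mul_one, add_mul, one_mul, smul_mul_smul_comm, ha, smul_zero, add_zero, add_assoc,
          ← add_smul, ← add_mul, add_neg_cancel, zero_mul, zero_smul, add_zero]
      have h3 : ρ m⁻¹ * ρ m = 1 := by rw [← map_mul, inv_mul_cancel, map_one]
      calc ρ m⁻¹ = ρ m⁻¹ * (ρ m * (1 + (-x * f) • a)) := by rw [h2, mul_one]
        _ = 1 + (-x * f) • a := by rw [← mul_assoc, h3, one_mul]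
    | mul x y _ _ hx hy =>
      rintro f hf
      rw [mul_assoc]
      exact hx _ (hy f hf)
  obtain ⟨z, hzM, hza⟩ := ha1
  intro t ht
  have h4 := key t (closure_le_subring (hF ht)) 1 ⟨z, hzM, by rw [one_smul]; exact hza⟩
  rwa [mul_one] at h4

end D4

end Cfsg.Agent.H601.BR

private theorem dce_cf9a99bbc10f : _root_.True := by
  try have : _root_.True := by simp only [_root_.Cfsg.Agent.H601.BR.twB.congr_simp]
  try have : _root_.True := by simp only [_root_.Cfsg.Agent.H601.BR.twB.eq_1]
  exact _root_.True.intro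
end
end
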